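import Cfsg.Agent.H653.Sieve.Col
import Cfsg.Agent.CharactersDeep.ModCongr

/-!
# The degree sieve for the Baby Monster (helper531, for S4910 / S4929)

* `mem_cand` : a divisor `d` of `|B|` with `d ^ 2 < |B|`, `2 ^ 38 ∣ d`, `¬ 2 ^ 40 ∣ d` and the residues of the degrees
  modulo `13, 19, 23, 31, 47` is one of six numbers;
* `residue` : the residues of the degrees modulo a prime dividing `|G|` exactly once, from `|G|` and `|C(x)|`;
* `sieve` : the characters of a simple group of order `|B|` with `2 ^ 38 ∣ χ(1)` and the given values at `x` of order 13;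
* `exists_coprime` : with the orthogonality relation, some character of the block has degree prime to `4371`.
-/

set_option autoImplicit false
set_option maxRecDepth 100000

open Cfsg Subgroup

namespace Cfsg.Agent.H531.MB

open Cfsg.Agent.H653.Sieve

universe u

/-- The order of the Baby Monster. -/
def nB : ℕ := 4154781481226426191177580544000000

/-- The residues of the degrees. -/
def rsB : List (ℕ × List ℕ) :=
  [(47, [0, 1, 46, 23, 24]), (31, [0, 1, 30, 15, 16]), (23, [0, 1, 22, 11, 12]), (19, [0, 1, 18])]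

def inL (r : ℕ) : List ℕ → Bool
  | [] => false
  | a :: l => bif Nat.beq r a then true else inL r l

theorem inL_iff {r : ℕ} : ∀ {l : List ℕ}, inL r l = true ↔ r ∈ l
  | [] => by simp [inL]
  | a :: l => by
    rw [inL, List.mem_cons, ← inL_iff (l := l)]
    cases h : Nat.beq r a
    · rw [cond_false]
      constructor
      · exact Or.inr
      · rintro (rfl | h1)
        · rw [Nat.beq_refl] at h; exact absurd h (by decide)
        · exact h1
    · rw [cond_true]
      simp [Nat.eq_of_beq_eq_true h]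

/-- The residues modulo `13`. -/
def thB (d : ℕ) : Bool :=
  bif Nat.beq (d % 549755813888) 0 then inL (d % 13) [2, 11] else inL (d % 13) [1, 12, 3, 10]

/-- The six possible degrees; the first three are prime to `4371`. -/
def candB : List ℕ := [1321338098679808, 2642676197359616, 10532771638280192, 9211433539600384, 11854109736960000,
  50811455976505344]

def resT (d : ℕ) : List (ℕ × List ℕ) → Bool
  | [] => true
  | (p, l) :: L => bif inL (d % p) l then resT d L else false

theorem resT_of {d : ℕ} : ∀ {L : List (ℕ × List ℕ)}, (∀ x ∈ L, d % x.1 ∈ x.2) → resT d L = true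
  | [], _ => rfl
  | (p, l) :: L, h => by
    rw [resT, inL_iff.2 (h (p, l) List.mem_cons_self), cond_true]
    exact resT_of fun x hx => h x (List.mem_cons_of_mem _ hx)

def tstB (d : ℕ) : Bool :=
  bif Nat.ble nB (d * d) then true else bif Nat.beq (d % 1099511627776) 0 then true else
    bif thB d && resT d rsB then inL d candB else true

theorem checkB : allDiv nB tstB [(2, 3), (47, 1), (31, 1), (23, 1), (19, 1), (17, 1), (13, 1), (11, 1), (7, 2), (5, 6),
    (3, 13)] 274877906944 = true := by decide +kernel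

/-- **The sieve.** -/
theorem mem_cand {d : ℕ} (hd : d ∣ nB) (hlt : d * d < nB) (h38 : 2 ^ 38 ∣ d) (h40 : ¬ 2 ^ 40 ∣ d)
    (h13 : (¬ 2 ^ 39 ∣ d ∧ d % 13 ∈ [1, 12, 3, 10]) ∨ (2 ^ 39 ∣ d ∧ d % 13 ∈ [2, 11]))
    (hr : ∀ x ∈ rsB, d % x.1 ∈ x.2) : d ∈ candB := by
  have ht : thB d = true := by
    have e39 : 2 ^ 39 = 549755813888 := by norm_num
    rw [e39] at h13
    rw [thB]
    rcases h13 with ⟨h1, h2⟩ | ⟨h1, h2⟩
    · have h3 : Nat.beq (d % 549755813888) 0 = false := by
        rw [Bool.eq_false_iff]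
        intro h
        exact h1 (Nat.dvd_of_mod_eq_zero (Nat.eq_of_beq_eq_true h))
      rw [h3, cond_false]
      exact inL_iff.2 h2
    · have h3 : Nat.beq (d % 549755813888) 0 = true := by
        rw [Nat.mod_eq_zero_of_dvd h1]
        rfl
      rw [h3, cond_true]
      exact inL_iff.2 h2
  obtain ⟨m, rfl⟩ := h38
  have h1 : m ∣ facProd [(2, 3), (47, 1), (31, 1), (23, 1), (19, 1), (17, 1), (13, 1), (11, 1), (7, 2), (5, 6),
      (3, 13)] := by
    have e : nB = 2 ^ 38 * facProd [(2, 3), (47, 1), (31, 1), (23, 1), (19, 1), (17, 1), (13, 1), (11, 1), (7, 2),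
      (5, 6), (3, 13)] := by decide +kernel
    rw [e] at hd
    exact Nat.dvd_of_mul_dvd_mul_left (by positivity) hd
  have h2 := allDiv_spec (N := nB) (f := tstB) (L := [(2, 3), (47, 1), (31, 1), (23, 1), (19, 1), (17, 1), (13, 1),
    (11, 1), (7, 2), (5, 6), (3, 13)]) (by
      intro pa hpa
      simp only [List.mem_cons, List.not_mem_nil, or_false] at hpa
      rcases hpa with rfl | rfl | rfl | rfl | rfl | rfl | rfl | rfl | rfl | rfl | rfl <;> norm_num) checkB m h1
      (by norm_num at hlt ⊢; exact hlt)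
  have e38 : 274877906944 = 2 ^ 38 := by norm_num
  rw [e38] at h2
  rw [tstB] at h2
  have h4 : Nat.ble nB (2 ^ 38 * m * (2 ^ 38 * m)) = false := by
    rw [Bool.eq_false_iff]
    intro h
    exact absurd (Nat.le_of_ble_eq_true h) (Nat.not_le.2 hlt)
  rw [h4, cond_false] at h2
  have h3 : Nat.beq (2 ^ 38 * m % 1099511627776) 0 = false := by
    rw [Bool.eq_false_iff]
    intro h
    apply h40
    have e40 : 2 ^ 40 = 1099511627776 := by norm_num
    rw [e40]
    exact Nat.dvd_of_mod_eq_zero (Nat.eq_of_beq_eq_true h)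
  rw [h3, cond_false, ht, resT_of hr, Bool.true_and, cond_true] at h2
  exact inL_iff.1 h2

section

variable {G : Type u} [Group G] [Finite G]

/-- **Residues of the degrees** modulo a prime dividing `|G|` exactly once. -/
theorem residue [IsSimpleGroup G] (hG : ¬ IsMulCommutative G) {p : ℕ} (hp : p.Prime) {N : ℕ}
    (hN : Nat.card G = N) {x : G} (hx : orderOf x = p) {k : ℕ} (hc : Nat.card (centralizer ({x} : Set G)) = p * k)
    (e t : ℕ) (wl : List (ℕ × ℤ)) (hnum : numOK N p k e t wl 0 false = true) (χ : IrrCharacter G) :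
    charDegree (χ : G → ℂ) % p ∈ wl.map Prod.fst := by
  have := Fact.mk hp
  have : Finite (IrrCharacter G) := Characters.Core.finite_irr
  have := Fintype.ofFinite (IrrCharacter G)
  obtain ⟨P, W, -, -, -, hW⟩ := exists_col hG hN hx hc e t wl 0 false hnum
  exact List.mem_map.2 ⟨_, hW.mem χ, rfl⟩

/-- The centralizers used: for each of the primes `19, 23, 31, 47` an element with the given centralizer order. -/
structure CentB (G : Type u) [Group G] : Prop where
  c19 : ∃ x : G, orderOf x = 19 ∧ Nat.card (centralizer ({x} : Set G)) = 38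
  c23 : ∃ x : G, orderOf x = 23 ∧ Nat.card (centralizer ({x} : Set G)) = 46
  c31 : ∃ x : G, orderOf x = 31 ∧ Nat.card (centralizer ({x} : Set G)) = 31
  c47 : ∃ x : G, orderOf x = 47 ∧ Nat.card (centralizer ({x} : Set G)) = 47

theorem sq_le [Fintype (IrrCharacter G)] (b : Finset (IrrCharacter G)) :
    ∑ χ ∈ b, charDegree (χ : G → ℂ) * charDegree (χ : G → ℂ) ≤ Nat.card G := by
  classical
  have := Fintype.ofFinite G
  have h3 := SmallSimple.DegreeData.sum_sq (G := G)
  rw [← h3]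
  refine (Finset.sum_le_sum_of_subset_of_nonneg (Finset.subset_univ b) fun χ _ _ => by positivity).trans ?_
  exact le_of_eq (Finset.sum_congr rfl fun χ _ => by ring)

/-- `χ(1) ^ 2 < |G|` for a simple group. -/
theorem sq_lt [IsSimpleGroup G] (χ : IrrCharacter G) :
    charDegree (χ : G → ℂ) * charDegree (χ : G → ℂ) < Nat.card G := by
  classical
  have : Finite (IrrCharacter G) := Characters.Core.finite_irr
  have := Fintype.ofFinite (IrrCharacter G)
  have hG1 : 1 < Nat.card G := Finite.one_lt_card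
  obtain ⟨χ₁, hχ₁⟩ : ∃ χ : IrrCharacter G, (χ : G → ℂ) = 1 := ⟨⟨1, Characters.Core.isIrr_one⟩, rfl⟩
  have hd1 : charDegree (χ₁ : G → ℂ) = 1 := by
    unfold charDegree
    rw [hχ₁]
    simp
  by_cases hχ : χ = χ₁
  · rw [hχ, hd1]
    simpa using hG1
  · have h4 := sq_le ({χ, χ₁} : Finset (IrrCharacter G))
    rw [Finset.sum_pair hχ, hd1] at h4
    omega

/-- `χ(1) ≡ χ(x)` modulo `p` for `x` of order `p` and an integral value. -/
theorem cong {p : ℕ} (hp : p.Prime) {x : G} (hx : orderOf x = p) (χ : IrrCharacter G) {z : ℤ}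
    (hz : (χ : G → ℂ) x = z) : (p : ℤ) ∣ (charDegree (χ : G → ℂ) : ℤ) - z := by
  have := Fact.mk hp
  obtain ⟨M, hM⟩ := Blocks.ExistsModular.exists_isPModular hp
  have h2 := Cfsg.Agent.CharactersDeep.ModCongr.memLocalIdeal_character_sub hM χ.2 x x
    ⟨1, mul_one x, Commute.one_right x, ⟨1, by rw [hx, pow_one]⟩, by
      rw [orderOf_one]; exact fun h => hp.one_lt.ne' (Nat.dvd_one.1 h)⟩
  rw [inv_mul_cancel, Blocks.Basic.irr_one_eq_charDegree χ.2, hz] at h2
  have h4 : (z : ℂ) - ((charDegree (χ : G → ℂ) : ℕ) : ℂ) = ((z - (charDegree (χ : G → ℂ) : ℤ) : ℤ) : ℂ) := by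
    push_cast; ring
  rw [h4] at h2
  have h5 := (Blocks.Local.memLocalIdeal_intCast_iff hM _).1 h2
  rw [← Int.dvd_neg]
  convert h5 using 1
  ring

/-- The degrees of a simple group of order `|B|` with a large power of two. -/
theorem deg_mem_cand [IsSimpleGroup G] (hG : ¬ IsMulCommutative G) (hN : Nat.card G = nB) (C : CentB G)
    (χ : IrrCharacter G) (h38 : 2 ^ 38 ∣ charDegree (χ : G → ℂ)) (h40 : ¬ 2 ^ 40 ∣ charDegree (χ : G → ℂ))
    (h13 : (¬ 2 ^ 39 ∣ charDegree (χ : G → ℂ) ∧ charDegree (χ : G → ℂ) % 13 ∈ [1, 12, 3, 10]) ∨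
      (2 ^ 39 ∣ charDegree (χ : G → ℂ) ∧ charDegree (χ : G → ℂ) % 13 ∈ [2, 11])) :
    charDegree (χ : G → ℂ) ∈ candB := by
  have hdvd : charDegree (χ : G → ℂ) ∣ nB := by rw [← hN]; exact Blocks.Knorr.charDegree_dvd χ.2
  have hlt : charDegree (χ : G → ℂ) * charDegree (χ : G → ℂ) < nB := by rw [← hN]; exact sq_lt χ
  obtain ⟨x19, o19, c19⟩ := C.c19
  obtain ⟨x23, o23, c23⟩ := C.c23
  obtain ⟨x31, o31, c31⟩ := C.c31
  obtain ⟨x47, o47, c47⟩ := C.c47
  have r19 := residue hG (by norm_num) hN o19 (k := 2) c19 18 1 [(0, 0), (1, 1), (18, -1)] (by decide +kernel) χ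
  have r23 := residue hG (by norm_num) hN o23 (k := 2) c23 11 2 [(0, 0), (1, 2), (22, -2), (11, -1), (12, 1)]
    (by decide +kernel) χ
  have r31 := residue hG (by norm_num) hN o31 (k := 1) c31 15 2 [(0, 0), (1, 2), (30, -2), (15, -1), (16, 1)]
    (by decide +kernel) χ
  have r47 := residue hG (by norm_num) hN o47 (k := 1) c47 23 2 [(0, 0), (1, 2), (46, -2), (23, -1), (24, 1)]
    (by decide +kernel) χ
  apply mem_cand hdvd hlt h38 h40 h13
  intro y hy
  simp only [rsB, List.mem_cons, List.not_mem_nil, or_false] at hy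
  rcases hy with rfl | rfl | rfl | rfl
  · exact r47
  · exact r31
  · exact r23
  · exact r19

/-- `v = χ(x)`, `w = χ(x z)`, `z` a double transposition of `C(x) = ⟨x⟩ × S₄`, and the power of two in the degree. -/
def Val (v w : ℤ) (d : ℕ) : Prop :=
  ∃ ε : ℤ, (ε = 1 ∨ ε = -1) ∧ ((v = ε ∧ w = ε ∧ ¬ 2 ^ 39 ∣ d) ∨ (v = 2 * ε ∧ w = 2 * ε ∧ 2 ^ 39 ∣ d ∧ ¬ 2 ^ 40 ∣ d) ∨
    (v = 3 * ε ∧ w = -ε ∧ ¬ 2 ^ 39 ∣ d))

theorem mod_of {d : ℕ} {z : ℤ} (h : (13 : ℤ) ∣ (d : ℤ) - z) {r : ℕ} (hr : z % 13 = r) : d % 13 = r := by omega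

/-- **The sieve** (LD-B6). -/
theorem sieve [IsSimpleGroup G] (hG : ¬ IsMulCommutative G) (hN : Nat.card G = nB) (C : CentB G) {x : G}
    (hx : orderOf x = 13) (χ : IrrCharacter G) (h38 : 2 ^ 38 ∣ charDegree (χ : G → ℂ)) {v w : ℤ}
    (hv : (χ : G → ℂ) x = v) (hV : Val v w (charDegree (χ : G → ℂ))) :
    Nat.Coprime (charDegree (χ : G → ℂ)) 4371 ∨ (charDegree (χ : G → ℂ) = 9211433539600384 ∧ v = 1 ∧ w = 1) ∨
      (charDegree (χ : G → ℂ) = 11854109736960000 ∧ v = 3 ∧ w = -1) ∨
      (charDegree (χ : G → ℂ) = 50811455976505344 ∧ v = 3 ∧ w = -1) := by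
  have hc := cong (by norm_num) hx χ hv
  push_cast at hc
  obtain ⟨ε, hε, hV⟩ := hV
  have h40 : ¬ 2 ^ 40 ∣ charDegree (χ : G → ℂ) := by
    rcases hV with h | h | h
    · exact fun h1 => h.2.2 ((pow_dvd_pow 2 (by norm_num)).trans h1)
    · exact h.2.2.2
    · exact fun h1 => h.2.2 ((pow_dvd_pow 2 (by norm_num)).trans h1)
  have h13 : (¬ 2 ^ 39 ∣ charDegree (χ : G → ℂ) ∧ charDegree (χ : G → ℂ) % 13 ∈ [1, 12, 3, 10]) ∨
      (2 ^ 39 ∣ charDegree (χ : G → ℂ) ∧ charDegree (χ : G → ℂ) % 13 ∈ [2, 11]) := by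
    rcases hV with h | h | h
    · left
      refine ⟨h.2.2, ?_⟩
      rcases hε with rfl | rfl
      · rw [mod_of hc (r := 1) (by rw [h.1]; norm_num)]; decide
      · rw [mod_of hc (r := 12) (by rw [h.1]; norm_num)]; decide
    · right
      refine ⟨h.2.2.1, ?_⟩
      rcases hε with rfl | rfl
      · rw [mod_of hc (r := 2) (by rw [h.1]; norm_num)]; decide
      · rw [mod_of hc (r := 11) (by rw [h.1]; norm_num)]; decide
    · left
      refine ⟨h.2.2, ?_⟩
      rcases hε with rfl | rfl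
      · rw [mod_of hc (r := 3) (by rw [h.1]; norm_num)]; decide
      · rw [mod_of hc (r := 10) (by rw [h.1]; norm_num)]; decide
  have hmem := deg_mem_cand hG hN C χ h38 h40 h13
  simp only [candB, List.mem_cons, List.not_mem_nil, or_false] at hmem
  rcases hmem with h | h | h | h | h | h
  · left; rw [h]; norm_num
  · left; rw [h]; norm_num
  · left; rw [h]; norm_num
  · right; left
    refine ⟨h, ?_⟩
    rw [h] at hc hV
    rcases hV with h1 | h1 | h1
    · rcases hε with rfl | rfl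
      · exact ⟨h1.1, h1.2.1⟩
      · rw [h1.1] at hc; norm_num at hc
    · rw [h1.1] at hc; rcases hε with rfl | rfl <;> norm_num at hc
    · rw [h1.1] at hc; rcases hε with rfl | rfl <;> norm_num at hc
  · right; right; left
    refine ⟨h, ?_⟩
    rw [h] at hc hV
    rcases hV with h1 | h1 | h1
    · rw [h1.1] at hc; rcases hε with rfl | rfl <;> norm_num at hc
    · rw [h1.1] at hc; rcases hε with rfl | rfl <;> norm_num at hc
    · rcases hε with rfl | rfl
      · exact ⟨by rw [h1.1]; norm_num, h1.2.1⟩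
      · rw [h1.1] at hc; norm_num at hc
  · right; right; right
    refine ⟨h, ?_⟩
    rw [h] at hc hV
    rcases hV with h1 | h1 | h1
    · rw [h1.1] at hc; rcases hε with rfl | rfl <;> norm_num at hc
    · rw [h1.1] at hc; rcases hε with rfl | rfl <;> norm_num at hc
    · rcases hε with rfl | rfl
      · exact ⟨by rw [h1.1]; norm_num, h1.2.1⟩
      · rw [h1.1] at hc; norm_num at hc

theorem nosol : ((List.range 35).all fun n2 => (List.range 35).all fun n3 =>
    (n2 == 0 && n3 == 0) || (43125 * n2 + 184851 * n3) % 33511 != 0 ||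
      Nat.blt 312 ((43125 * n2 + 184851 * n3) / 33511 + 9 * n2 + 9 * n3)) = true := by decide +kernel

/-- **The block of `χ₀`**: some character has degree prime to `4371`. `v χ = χ(x)`, `w χ = χ(x z)`. -/
theorem exists_coprime [IsSimpleGroup G] (hG : ¬ IsMulCommutative G) (hN : Nat.card G = nB) (C : CentB G) {x : G}
    (hx : orderOf x = 13) (b : Finset (IrrCharacter G)) (hb : b.Nonempty) (v w : IrrCharacter G → ℤ)
    (h38 : ∀ χ ∈ b, 2 ^ 38 ∣ charDegree (χ : G → ℂ)) (hv : ∀ χ ∈ b, (χ : G → ℂ) x = v χ)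
    (hV : ∀ χ ∈ b, Val (v χ) (w χ) (charDegree (χ : G → ℂ))) (hsq : ∑ χ ∈ b, v χ * v χ ≤ 312)
    (hsum : ∑ χ ∈ b, (charDegree (χ : G → ℂ) : ℤ) * w χ = 0) :
    ∃ χ ∈ b, Nat.Coprime (charDegree (χ : G → ℂ)) 4371 := by
  classical
  by_contra hno
  push Not at hno
  set d : IrrCharacter G → ℕ := fun χ => charDegree (χ : G → ℂ) with hd
  have hcase : ∀ χ ∈ b, (d χ = 9211433539600384 ∧ v χ = 1 ∧ w χ = 1) ∨ (d χ = 11854109736960000 ∧ v χ = 3 ∧ w χ = -1) ∨
      (d χ = 50811455976505344 ∧ v χ = 3 ∧ w χ = -1) := fun χ hχ =>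
    (sieve hG hN C hx χ (h38 χ hχ) (hv χ hχ) (hV χ hχ)).resolve_left (hno χ hχ)
  -- counting
  have key : ∀ s : Finset (IrrCharacter G), s ⊆ b → ∃ n1 n2 n3 : ℕ, s.card = n1 + n2 + n3 ∧
      ∑ χ ∈ s, v χ * v χ = n1 + 9 * n2 + 9 * n3 ∧
      ∑ χ ∈ s, (d χ : ℤ) * w χ = 9211433539600384 * n1 - 11854109736960000 * n2 - 50811455976505344 * n3 := by
    intro s
    induction s using Finset.induction_on with
    | empty => intro _; exact ⟨0, 0, 0, by simp, by simp, by simp⟩
    | insert a s ha ih =>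
      intro hs
      obtain ⟨n1, n2, n3, h1, h2, h3⟩ := ih ((Finset.subset_insert _ _).trans hs)
      rw [Finset.card_insert_of_notMem ha, Finset.sum_insert ha, Finset.sum_insert ha, h1, h2, h3]
      rcases hcase a (hs (Finset.mem_insert_self _ _)) with h | h | h
      · refine ⟨n1 + 1, n2, n3, by ring, ?_, ?_⟩
        · rw [h.2.1]; push_cast; ring
        · rw [h.1, h.2.2]; push_cast; ring
      · refine ⟨n1, n2 + 1, n3, by ring, ?_, ?_⟩
        · rw [h.2.1]; push_cast; ring
        · rw [h.1, h.2.2]; push_cast; ring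
      · refine ⟨n1, n2, n3 + 1, by ring, ?_, ?_⟩
        · rw [h.2.1]; push_cast; ring
        · rw [h.1, h.2.2]; push_cast; ring
  obtain ⟨n1, n2, n3, h1, h2, h3⟩ := key b (Finset.Subset.refl _)
  have hpos := hb.card_pos
  rw [hsum] at h3
  rw [h2] at hsq
  have h4 : 33511 * n1 = 43125 * n2 + 184851 * n3 := by omega
  have h5 : n1 + 9 * n2 + 9 * n3 ≤ 312 := by omega
  have h6 := List.all_eq_true.1 nosol n2 (List.mem_range.2 (by omega))
  have h7 := List.all_eq_true.1 h6 n3 (List.mem_range.2 (by omega))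
  rw [← h4, Nat.mul_mod_right, Nat.mul_div_cancel_left n1 (by norm_num : 0 < 33511)] at h7
  simp only [Bool.or_eq_true, Bool.and_eq_true, beq_iff_eq, bne_self_eq_false, Bool.false_eq_true, or_false] at h7
  rcases h7 with h7 | h7
  · omega
  · rw [Nat.blt_eq] at h7
    omega

end

end Cfsg.Agent.H531.MB
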